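import Cfsg.Agent.H5.RIM.FiOrd
import Cfsg.Agent.H620.RIM.Nb
import Cfsg.Agent.H68.Bounds
import Cfsg.Agent.H843.N17
import Cfsg.Agent.H843.N23
import Cfsg.Agent.H843.N29
import Cfsg.Agent.S2055

/-!
# S4816: `Fi24'`, `p = 17, 23, 29` (helper5)

`nball_17`, `nball_23`, `nball_29` : the defect zero count with 18 classes of elements of order prime to 3.
-/

set_option autoImplicit false
set_option maxRecDepth 100000

open Cfsg Subgroup

namespace Cfsg.Agent.H5.RIM

open Cfsg.Spor (Fi24)
open Cfsg.Spor.Fi24 (Gen)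
open Cfsg.Agent.H665.RIM Cfsg.Agent.H620.RIM Cfsg.Agent.H153.Dl
open Cfsg.Agent.R08.FiTwentyFour (index_commutator)

universe u

/-- classes separated by the orders -/
theorem exists_F {S : Type u} [Group S] {m : ℕ} (l : List ℕ) (hl : l.Nodup)
    (h : ∀ n ∈ l, n.Coprime m ∧ ∃ g : S, orderOf g = n) :
    ∃ F : Finset (ConjClasses S), F.card = l.length ∧ ∀ C ∈ F, ∃ g : S, ConjClasses.mk g = C ∧ MGood m g := by
  classical
  choose f hf using fun n : {n // n ∈ l.toFinset} => (h n.1 (List.mem_toFinset.1 n.2)).2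
  have hinj : Function.Injective fun n : {n // n ∈ l.toFinset} => ConjClasses.mk (f n) := by
    intro a b hab
    have h1 : IsConj (f a) (f b) := ConjClasses.mk_eq_mk_iff_isConj.1 hab
    obtain ⟨c, hc⟩ := isConj_iff.1 h1
    have h2 : orderOf (f b) = orderOf (f a) := by
      rw [← hc, ← MulAut.conj_apply, MulEquiv.orderOf_eq]
    apply Subtype.ext
    rw [← hf a, ← hf b, h2]
  refine ⟨l.toFinset.attach.image fun n : {n // n ∈ l.toFinset} => ConjClasses.mk (f n), ?_, ?_⟩
  · rw [Finset.card_image_of_injective _ hinj, Finset.card_attach, List.toFinset_card_of_nodup hl]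
  · intro C hC
    obtain ⟨n, -, rfl⟩ := Finset.mem_image.1 hC
    refine ⟨f n, rfl, mGood_of_coprime ?_⟩
    rw [hf n]
    exact (h n.1 (List.mem_toFinset.1 n.2)).1

/-- normalizers in `Fi24'` and in `Fi24` -/
theorem card_norm [Finite Fi24] {x : Fi24} (hx : x ∈ commutator Fi24) {d : Fi24}
    (hd : d ∈ normalizer ((zpowers x : Subgroup Fi24) : Set Fi24)) (hd' : d ∉ commutator Fi24) :
    Nat.card (normalizer ((zpowers (⟨x, hx⟩ : Spor.Fi24') : Subgroup Spor.Fi24') : Set Spor.Fi24')) * 2 =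
      Nat.card (normalizer ((zpowers x : Subgroup Fi24) : Set Fi24)) := by
  set N := normalizer ((zpowers x : Subgroup Fi24) : Set Fi24) with hN
  have hz : ∀ g : Spor.Fi24', g ∈ zpowers (⟨x, hx⟩ : Spor.Fi24') ↔ (g : Fi24) ∈ zpowers x := by
    intro g
    rw [mem_zpowers_iff, mem_zpowers_iff]
    constructor
    · rintro ⟨k, rfl⟩
      exact ⟨k, rfl⟩
    · rintro ⟨k, hk⟩
      exact ⟨k, Subtype.ext hk⟩
  have e : ∀ g : Spor.Fi24', g ∈ normalizer ((zpowers (⟨x, hx⟩ : Spor.Fi24') : Subgroup Spor.Fi24') : Set Spor.Fi24') ↔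
      (g : Fi24) ∈ N := by
    intro g
    rw [hN, mem_normalizer_iff, mem_normalizer_iff]
    constructor
    · intro h n
      have hle : ∀ a : Fi24, a ∈ zpowers x → a ∈ commutator Fi24 := fun a ha => (zpowers_le.2 hx) ha
      constructor
      · intro hn
        exact (hz _).1 ((h ⟨n, hle n hn⟩).1 ((hz ⟨n, hle n hn⟩).2 hn))
      · intro hn
        have h1 : n ∈ commutator Fi24 := by
          have h2 := Subgroup.Normal.conj_mem (inferInstance : (commutator Fi24).Normal) _ (hle _ hn) (g : Fi24)⁻¹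
          have e2 : (g : Fi24)⁻¹ * ((g : Fi24) * n * (g : Fi24)⁻¹) * (g : Fi24)⁻¹⁻¹ = n := by group
          rwa [e2] at h2
        exact (hz ⟨n, h1⟩).1 ((h ⟨n, h1⟩).2 ((hz _).2 hn))
    · intro h n
      rw [hz, hz]
      exact h n
  have h1 : Nat.card (normalizer ((zpowers (⟨x, hx⟩ : Spor.Fi24') : Subgroup Spor.Fi24') : Set Spor.Fi24')) =
      Nat.card ((commutator Fi24).subgroupOf N) := by
    refine Nat.card_congr ⟨fun g => ⟨⟨((g : Spor.Fi24') : Fi24), (e _).1 g.2⟩, (g : Spor.Fi24').2⟩,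
      fun g => ⟨⟨((g : N) : Fi24), g.2⟩, (e _).2 (g : N).2⟩, fun _ => rfl, fun _ => rfl⟩
  have h2 : ((commutator Fi24).subgroupOf N).index = 2 := by
    have h1 : (commutator Fi24).relIndex N ∣ 2 := by
      rw [← index_commutator]
      exact Subgroup.relIndex_dvd_index_of_normal _ _
    have h2 : (commutator Fi24).relIndex N ≠ 1 := fun h => hd' (Subgroup.relIndex_eq_one.1 h hd)
    exact ((Nat.dvd_prime Nat.prime_two).1 h1).resolve_left h2
  rw [h1, ← h2]
  exact Subgroup.card_mul_index _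

/-- perfect central extensions of `Fi24'` -/
theorem dvd_three {S : Type u} [Group S] (h : Spor.IsoFi24' S) {E : Type u} [Group E] [Finite E] {π : E →* S}
    (hs : Function.Surjective π) (hc : π.ker ≤ center E) (hperf : commutator E = ⊤) : Nat.card π.ker ∣ 3 := by
  obtain ⟨f⟩ := h
  have h1 : H51.Mult.PCE (f.toMonoidHom.comp π) := ⟨f.surjective.comp hs, by
    intro x hx
    have h2 : f (π x) = 1 := hx
    rw [f.map_eq_one_iff] at h2
    exact hc h2, hperf⟩
  have h2 := (H68.Bounds.ker_of_hasCyclic S2055.result h1).2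
  have h3 : (f.toMonoidHom.comp π).ker = π.ker := by
    ext x
    exact f.map_eq_one_iff
  rwa [h3] at h2

/-- **the count** -/
theorem nball {S : Type u} [Group S] (h : Spor.IsoFi24' S) {p w : ℕ} (hp : p.Prime)
    (hsq : ¬ p ^ 2 ∣ 1255205709190661721292800) {y : Spor.Fi24'} (hy : orderOf y = p)
    (hC : Nat.card (centralizer ({y} : Set Spor.Fi24')) = p)
    (hN : Nat.card (normalizer ((zpowers y : Subgroup Spor.Fi24') : Set Spor.Fi24')) = w * p)
    (hlt : w ^ 2 + (p - 1) < w * 18) : NBall p S := by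
  intro m hm hpm
  by_cases h3 : m = 3
  · subst h3
    obtain ⟨e⟩ := h
    obtain ⟨F, hF, hF'⟩ := exists_F (S := S) (m := 3) ords (by decide) (by
      intro n hn
      refine ⟨?_, ?_⟩
      · simp only [ords, List.mem_cons, List.not_mem_nil, or_false] at hn
        rcases hn with rfl | rfl | rfl | rfl | rfl | rfl | rfl | rfl | rfl | rfl | rfl | rfl | rfl | rfl | rfl | rfl | rfl | rfl <;>
          norm_num
      · obtain ⟨g, hg⟩ := exists_order n hn
        exact ⟨e.symm g, by rw [MulEquiv.orderOf_eq, hg]⟩)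
    refine nb_of_dz_self hp hpm (y := e.symm y) (w := w) ?_ ?_ ?_ ?_ F hF' ?_
    · rw [Nat.card_congr e.toEquiv, card_fi]
      exact hsq
    · rw [MulEquiv.orderOf_eq, hy]
    · rw [card_centralizer_congr e.symm y, hC]
    · rw [card_normalizer_congr e.symm y, hN]
    · rw [hF]
      exact hlt
  · intro E _ _ π hs hc hperf hk l hl
    exfalso
    have h1 := dvd_three h hs hc hperf
    rw [hk] at h1
    rcases (Nat.dvd_prime Nat.prime_three).1 h1 with h2 | h2
    · omega
    · exact h3 h2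

theorem odd_l : Fischer.Fi24Rep.gen .l ∉ commutator Fi24 :=
  Cfsg.Agent.R08.FiTwentyFour.odd (Cfsg.Agent.R08.FiTwentyFour.gen_mem_L .l)

theorem norm_of_cent {G : Type*} [Group G] {x d : G} (h : d ∈ centralizer ((zpowers x : Subgroup G) : Set G)) :
    d ∈ normalizer ((zpowers x : Subgroup G) : Set G) := centralizer_le_normalizer _ h

theorem l_17 : Fischer.Fi24Rep.gen .l ∈ centralizer ((zpowers H843.D17.D.x : Subgroup Fi24) : Set Fi24) := by
  have h4 : Fischer.Fi24Rep.gen .l ∈ R08.FiTwentyFour.L ∩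
      (centralizer ((zpowers H843.D17.D.x : Subgroup Fi24) : Set Fi24) : Set Fi24) := by
    rw [H843.D17.inter]; rfl
  exact h4.2

theorem l_23 : Fischer.Fi24Rep.gen .l ∈ centralizer ((zpowers H843.D23.D.x : Subgroup Fi24) : Set Fi24) := by
  have h4 : Fischer.Fi24Rep.gen .l ∈ R08.FiTwentyFour.L ∩
      (centralizer ((zpowers H843.D23.D.x : Subgroup Fi24) : Set Fi24) : Set Fi24) := by
    rw [H843.D23.inter]; rfl
  exact h4.2

/-- **`Fi24'`, `p = 17`** -/
theorem nball_17 {S : Type u} [Group S] (h : Spor.IsoFi24' S) : NBall 17 S := by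
  have hfin := R08.FiTwentyFour.finite_Fi24
  have hx : H843.D17.D.x ∈ commutator Fi24 := H843.Fi24N.mem_commutator (by rw [H843.D17.order]; decide)
  have hy : orderOf (⟨H843.D17.D.x, hx⟩ : Spor.Fi24') = 17 := by rw [← Subgroup.orderOf_coe]; exact H843.D17.order
  have h2 := card_norm hx (norm_of_cent l_17) odd_l
  rw [H843.D17.main.1] at h2
  exact nball h (w := 16) (by norm_num) (by norm_num) hy
    (H968.Tor.card_cent24 (by norm_num) (by norm_num) (fun _ hR => (H256.Sep.FiData.data17 hR).1) hy) (by omega)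
    (by norm_num)

/-- **`Fi24'`, `p = 23`** -/
theorem nball_23 {S : Type u} [Group S] (h : Spor.IsoFi24' S) : NBall 23 S := by
  have hfin := R08.FiTwentyFour.finite_Fi24
  have hx : H843.D23.D.x ∈ commutator Fi24 := H843.Fi24N.mem_commutator (by rw [H843.D23.order]; decide)
  have hy : orderOf (⟨H843.D23.D.x, hx⟩ : Spor.Fi24') = 23 := by rw [← Subgroup.orderOf_coe]; exact H843.D23.order
  have h2 := card_norm hx (norm_of_cent l_23) odd_l
  rw [H843.D23.main.1] at h2
  exact nball h (w := 11) (by norm_num) (by norm_num) hy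
    (H968.Tor.card_cent24 (by norm_num) (by norm_num) (fun _ hR => (H256.Sep.FiData.data23 hR).1) hy) (by omega)
    (by norm_num)

/-- **`Fi24'`, `p = 29`** -/
theorem nball_29 {S : Type u} [Group S] (h : Spor.IsoFi24' S) : NBall 29 S := by
  have hfin := R08.FiTwentyFour.finite_Fi24
  have hx : H843.D29.D.x ∈ commutator Fi24 := H843.Fi24N.mem_commutator (by rw [H843.D29.order]; decide)
  have hy : orderOf (⟨H843.D29.D.x, hx⟩ : Spor.Fi24') = 29 := by rw [← Subgroup.orderOf_coe]; exact H843.D29.order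
  have hodd : R24.word H843.D29.w12 ∉ commutator Fi24 := by
    rw [word_mem]
    decide
  have hn : R24.word H843.D29.w12 ∈ normalizer ((zpowers H843.D29.D.x : Subgroup Fi24) : Set Fi24) :=
    H843.Fi24N.mem_normalizer (H843.Fi24N.conj_of H843.D29.h12)
  have h2 := card_norm hx hn hodd
  rw [H843.D29.main.1] at h2
  exact nball h (w := 14) (by norm_num) (by norm_num) hy (H968.Tor.card_cent29 hy) (by omega) (by norm_num)

end Cfsg.Agent.H5.RIM

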