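import Cfsg.Agent.H968.Tor.FiFour
import Cfsg.Agent.H153.Dl.RFi24
import Cfsg.Agent.H843.Fi24N

/-!
# `Fi24'`: elements of 18 different orders prime to 3 (helper5, for S4816)

`exists_order` : for every `n` in `[1, 2, 4, 5, 7, 8, 10, 11, 13, 14, 17, 20, 22, 23, 26, 28, 29, 35]` an element of order `n`.
-/

set_option autoImplicit false
set_option maxRecDepth 100000
set_option linter.constructorNameAsVariable false

open Cfsg Subgroup

namespace Cfsg.Agent.H5.RIM

open Cfsg.Spor (Fi24)
open Cfsg.Spor.Fi24 (Gen)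
open Cfsg.Agent.H153.Dl Cfsg.Agent.H153.Dl.PR Cfsg.Agent.Lib.PermNetPt
open Cfsg.Agent.R08.FiTwentyFour (index_commutator)

theorem word_mem (l : List Gen) : R24.word l ∈ commutator Fi24 ↔ Even l.length := by
  show Fischer.Fi24Rep.word l ∈ commutator Fi24 ↔ Even l.length
  induction l with
  | nil =>
    rw [Fischer.Fi24Spider.word_nil]
    exact ⟨fun _ => by simp, fun _ => one_mem _⟩
  | cons c l ih =>
    have hc : Fischer.Fi24Rep.gen c ∉ commutator Fi24 :=
      Cfsg.Agent.R08.FiTwentyFour.odd (Cfsg.Agent.R08.FiTwentyFour.gen_mem_L c)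
    rw [Fischer.Fi24Spider.word_cons, Subgroup.mul_mem_iff_of_index_two index_commutator, ih, List.length_cons,
      Nat.even_add_one]
    tauto

theorem pow_of {xw : List Gen} {k : ℕ} (h : R24.chkEq (rep k xw) [] = true) : R24.word xw ^ k = 1 := by
  have h2 : R24.word (rep k xw) = R24.word [] := R24.word_eq_of h
  have h3 : R24.word (rep k xw) = R24.word xw ^ k := R24.word_rep k xw
  rw [← h3, h2]
  exact R24.word_nil

theorem pow_ne_of {xw : List Gen} {k p : ℕ} (h : Nat.beq (winv (R24.nw (rep k xw)) p) p = false) :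
    R24.word xw ^ k ≠ 1 := by
  intro h1
  have h2 : winv (R24.nw (rep k xw)) p = R24.rho (R24.word (rep k xw))⁻¹ p := R24.winv_word (rep k xw) p
  have h3 : R24.word (rep k xw) = R24.word xw ^ k := R24.word_rep k xw
  rw [h3, h1, inv_one, map_one, Equiv.Perm.one_apply] at h2
  rw [h2, Nat.beq_refl] at h
  exact Bool.noConfusion h

/-- the order from the kernel checks -/
theorem order_of {xw : List Gen} {n : ℕ} (l : List ℕ) (hn : 0 < n) (hl : ∀ r, r.Prime → r ∣ n → r ∈ l)
    (h : R24.chkEq (rep n xw) [] = true) (h' : ∀ r ∈ l, R24.word xw ^ (n / r) ≠ 1) : orderOf (R24.word xw) = n :=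
  orderOf_eq_of_pow_and_pow_div_prime hn (pow_of h) fun r hr hd => h' r (hl r hr hd)

theorem mem_of_dvd {n : ℕ} (hn : n ≠ 0) (l : List ℕ) (h : n.primeFactors ⊆ l.toFinset) :
    ∀ r, r.Prime → r ∣ n → r ∈ l := fun _ hr hd => List.mem_toFinset.1 (h (Nat.mem_primeFactors.2 ⟨hr, hd, hn⟩))

def w8 : List Gen := [.c, .h, .e, .b, .c, .f, .d, .l]

def w20 : List Gen := [.f, .h, .a, .j, .l, .k, .d, .e]

def w22 : List Gen := [.h, .l, .g, .d, .a, .b, .j, .g, .c, .e, .i, .d, .e, .f]

def w26 : List Gen := [.d, .j, .a, .b, .c, .h, .i, .f, .e, .l]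

def w28 : List Gen := [.d, .l, .b, .j, .h, .i, .g, .c, .e, .f]

def w35 : List Gen := [.b, .a, .l, .f, .k, .e, .h, .j, .d, .g]

theorem o_w8 : orderOf (R24.word w8) = 8 := by
  refine order_of [2] (by norm_num) (mem_of_dvd (by norm_num) _ (by decide +kernel)) (by decide +kernel) ?_
  intro r hr
  simp only [List.mem_cons, List.not_mem_nil, or_false] at hr
  subst hr
  exact pow_ne_of (p := 1) (by decide +kernel)

theorem o_w20 : orderOf (R24.word w20) = 20 := by
  refine order_of [2, 5] (by norm_num) (mem_of_dvd (by norm_num) _ (by decide +kernel)) (by decide +kernel) ?_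
  intro r hr
  simp only [List.mem_cons, List.not_mem_nil, or_false] at hr
  rcases hr with rfl | rfl
  · exact pow_ne_of (p := 0) (by decide +kernel)
  · exact pow_ne_of (p := 2) (by decide +kernel)

theorem o_w22 : orderOf (R24.word w22) = 22 := by
  refine order_of [2, 11] (by norm_num) (mem_of_dvd (by norm_num) _ (by decide +kernel)) (by decide +kernel) ?_
  intro r hr
  simp only [List.mem_cons, List.not_mem_nil, or_false] at hr
  rcases hr with rfl | rfl
  · exact pow_ne_of (p := 1) (by decide +kernel)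
  · exact pow_ne_of (p := 1) (by decide +kernel)

theorem o_w26 : orderOf (R24.word w26) = 26 := by
  refine order_of [2, 13] (by norm_num) (mem_of_dvd (by norm_num) _ (by decide +kernel)) (by decide +kernel) ?_
  intro r hr
  simp only [List.mem_cons, List.not_mem_nil, or_false] at hr
  rcases hr with rfl | rfl
  · exact pow_ne_of (p := 8) (by decide +kernel)
  · exact pow_ne_of (p := 1) (by decide +kernel)

theorem o_w28 : orderOf (R24.word w28) = 28 := by
  refine order_of [2, 7] (by norm_num) (mem_of_dvd (by norm_num) _ (by decide +kernel)) (by decide +kernel) ?_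
  intro r hr
  simp only [List.mem_cons, List.not_mem_nil, or_false] at hr
  rcases hr with rfl | rfl
  · exact pow_ne_of (p := 1) (by decide +kernel)
  · exact pow_ne_of (p := 1) (by decide +kernel)

theorem o_w35 : orderOf (R24.word w35) = 35 := by
  refine order_of [5, 7] (by norm_num) (mem_of_dvd (by norm_num) _ (by decide +kernel)) (by decide +kernel) ?_
  intro r hr
  simp only [List.mem_cons, List.not_mem_nil, or_false] at hr
  rcases hr with rfl | rfl
  · exact pow_ne_of (p := 0) (by decide +kernel)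
  · exact pow_ne_of (p := 2) (by decide +kernel)

theorem exists_word {xw : List Gen} {n : ℕ} (h : orderOf (R24.word xw) = n) (he : Even xw.length) :
    ∃ g : Spor.Fi24', orderOf g = n :=
  ⟨⟨R24.word xw, (word_mem xw).2 he⟩, by rw [← h, ← Subgroup.orderOf_coe]⟩

theorem exists_pow {G : Type*} [Group G] {n : ℕ} (h : ∃ g : G, orderOf g = n) (k m : ℕ) (hk : k ≠ 0) (hm : n = k * m) :
    ∃ g : G, orderOf g = m := by
  obtain ⟨g, hg⟩ := h
  refine ⟨g ^ k, ?_⟩
  rw [orderOf_pow_of_dvd hk (by rw [hg, hm]; exact Dvd.intro _ rfl), hg, hm, Nat.mul_div_cancel_left _ (Nat.pos_of_ne_zero hk)]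

theorem card_fi : Nat.card Spor.Fi24' = 1255205709190661721292800 := R08.FiTwentyFour.card_commutator

/-- the orders -/
def ords : List ℕ := [1, 2, 4, 5, 7, 8, 10, 11, 13, 14, 17, 20, 22, 23, 26, 28, 29, 35]

theorem exists_order : ∀ n ∈ ords, ∃ g : Spor.Fi24', orderOf g = n := by
  have hfin := H968.Tor.finite24
  have h8 := exists_word o_w8 (by decide)
  have h20 := exists_word o_w20 (by decide)
  have h22 := exists_word o_w22 (by decide)
  have h26 := exists_word o_w26 (by decide)
  have h28 := exists_word o_w28 (by decide)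
  have h35 := exists_word o_w35 (by decide)
  have hc : ∀ p : ℕ, p.Prime → p ∣ Nat.card Spor.Fi24' → ∃ g : Spor.Fi24', orderOf g = p := fun p hp hd => by
    have : Fact p.Prime := ⟨hp⟩
    exact exists_prime_orderOf_dvd_card' p hd
  intro n hn
  simp only [ords, List.mem_cons, List.not_mem_nil, or_false] at hn
  rcases hn with rfl | rfl | rfl | rfl | rfl | rfl | rfl | rfl | rfl | rfl | rfl | rfl | rfl | rfl | rfl | rfl | rfl | rfl
  · exact ⟨1, orderOf_one⟩
  · exact exists_pow h8 4 2 (by norm_num) (by norm_num)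
  · exact exists_pow h8 2 4 (by norm_num) (by norm_num)
  · exact exists_pow h20 4 5 (by norm_num) (by norm_num)
  · exact exists_pow h28 4 7 (by norm_num) (by norm_num)
  · exact h8
  · exact exists_pow h20 2 10 (by norm_num) (by norm_num)
  · exact exists_pow h22 2 11 (by norm_num) (by norm_num)
  · exact exists_pow h26 2 13 (by norm_num) (by norm_num)
  · exact exists_pow h28 2 14 (by norm_num) (by norm_num)
  · exact hc 17 (by norm_num) (by rw [card_fi]; norm_num)
  · exact h20
  · exact h22
  · exact hc 23 (by norm_num) (by rw [card_fi]; norm_num)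
  · exact h26
  · exact h28
  · exact hc 29 (by norm_num) (by rw [card_fi]; norm_num)
  · exact h35

end Cfsg.Agent.H5.RIM
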